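import Cfsg.Agent.Lib.Spor.SuzOut.Data

/-!
Kernel checks of the certificate.
-/

namespace CfsgLib.SporOut.Suz

open CfsgLib.PresCert

theorem a_ok : data.okA = true := by decide +kernel

end CfsgLib.SporOut.Suz
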