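import Cfsg.Agent.Lib.Spor.SuzOut.Data
import Cfsg.Agent.Lib.Spor.SuzOut.Mem
import Cfsg.Agent.Lib.Spor.Suz.PermData

/-!
The chosen elements are words in the generators of the presentation.
-/

namespace CfsgLib.SporOut.Suz

open CfsgLib.PresCert

theorem memWords_ok : memData.okWords memData.g memData.words = true := by decide +kernel

theorem memGen_ok : ((List.range 7).all fun k => allBelow 1782 fun i =>
    Nat.beq (memData.img k i) (CfsgLib.Spor.Suz.Perm.data.img k i)) = true := by decide +kernel

theorem memIdx_ok : ((List.range 3).all fun l => Nat.blt (memIdx.getD l 0) memData.N &&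
    allBelow 1782 fun i => Nat.beq (memData.img (memIdx.getD l 0) i) (data.D.img l i)) = true := by
  decide +kernel

end CfsgLib.SporOut.Suz
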