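import Cfsg.Agent.Lib.Spor.Suz.Cosets
import Cfsg.Agent.Lib.Spor.SuzOut.CheckTab
import Cfsg.Agent.Lib.Spor.SuzOut.CheckA
import Cfsg.Agent.Lib.Spor.SuzOut.CheckB
import Cfsg.Agent.Lib.Spor.SuzOut.CheckC
import Cfsg.Agent.Lib.Spor.SuzOut.CheckMem

/-!
The outer automorphism group of the presented Suzuki group has order two.
-/

set_option autoImplicit false

namespace CfsgLib.SporOut.Suz

open CfsgLib.PresCert CfsgLib.Spor Cfsg

theorem valid : data.Valid where
  words := words_ok
  three := rfl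
  inv := inv_ok
  levA := levA_ok
  levB := levB_ok
  expA := expA_ok
  expB := expB_ok
  xA := by decide +kernel
  s1 := by decide +kernel
  hs := by decide +kernel
  rel := rel_ok
  a := a_ok
  b := b_ok
  npairs := by decide +kernel
  sig := sig_ok
  cent := cent_ok
  outer := outer_ok

/-- the letters as generators -/
def letter (k : ℕ) : Cfsg.Spor.Suz.Gen := CfsgLib.Spor.Suz.allGens.getD k .a

theorem idx_letter : ∀ k < 7, CfsgLib.Spor.Suz.idx (letter k) = k := by decide

/-- the three elements -/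
theorem exists_gens : ∀ l, ∃ x : Cfsg.Spor.Suz, l < 3 → ∀ i : Fin data.D.n,
    ((CfsgLib.Spor.Suz.π x i : Fin data.D.n) : ℕ) = data.D.img l i := by
  intro l
  by_cases hl : l < 3
  swap
  · exact ⟨1, fun h => absurd h hl⟩
  let I : memData.Interp :=
    ⟨fun k => CfsgLib.Spor.Suz.π (CfsgLib.Spor.Suz.gen (letter k)), fun k hk i => by
      have hk' : k < 7 := hk
      refine (CfsgLib.Spor.Suz.π_gen (letter k) i).trans ?_
      rw [idx_letter k hk']
      exact (Nat.eq_of_beq_eq_true
        (allBelow_spec (List.all_eq_true.1 memGen_ok k (List.mem_range.2 hk')) i i.2)).symm⟩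
  have h := List.all_eq_true.1 memIdx_ok l (List.mem_range.2 hl)
  rw [Bool.and_eq_true, Nat.blt_eq] at h
  obtain ⟨σ, hσ, he⟩ := Tab.elem_exists I memWords_ok _ h.1
  have hx : ∃ x : Cfsg.Spor.Suz, ∀ i : Fin memData.n,
      ((CfsgLib.Spor.Suz.π x i : Fin memData.n) : ℕ) = (σ i : Fin memData.n) := by
    let J : Subgroup (Equiv.Perm (Fin memData.n)) := CfsgLib.Spor.Suz.π.range
    have hle : Tab.grp I ≤ J := (Subgroup.closure_le J).2 fun τ ⟨k, _, e⟩ => ⟨_, e⟩
    obtain ⟨x, e⟩ := hle hσ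
    exact ⟨x, fun i => congrArg (fun τ : Equiv.Perm (Fin memData.n) => ((τ i : Fin memData.n) : ℕ)) e⟩
  obtain ⟨x, hx⟩ := hx
  exact ⟨x, fun _ i => ((hx i).trans (he i)).trans (Nat.eq_of_beq_eq_true (allBelow_spec h.2 i i.2))⟩

theorem card_out : Nat.card (Out Cfsg.Spor.Suz) = 2 := by
  have := CfsgLib.Spor.Suz.finite
  choose gens hgens using exists_gens
  have : Fact data.p.Prime := ⟨by decide +kernel⟩
  exact natCard_out_eq_two data valid CfsgLib.Spor.Suz.natCard (by decide +kernel)
    (by decide +kernel) (by decide +kernel) CfsgLib.Spor.Suz.π gens hgens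

end CfsgLib.SporOut.Suz
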